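import Cfsg.Agent.Lib.KnownSimple.U43Lab.Data

set_option autoImplicit false
set_option maxRecDepth 100000

namespace Cfsg.Agent.Lib.KnownSimple.U43Lab

open Cfsg.Agent.Lib.KnownSimple.Lab Cfsg.Agent.Lib.KnownSimple.U43Lab Dat

theorem hL0c0_c0 : allI (fun i => lowOK D.T lN0 4 0 wr0 i) 0 540 = true := by decide +kernel
theorem hL0c0_u0 : ∀ i, i < 540 → (fun i => lowOK D.T lN0 4 0 wr0 i) i = true :=
  allI_join allI_start hL0c0_c0 rfl
theorem hL0c0 : ∀ i, i < 540 → (fun i => lowOK D.T lN0 4 0 wr0 i) i = true := hL0c0_u0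
theorem hL0c1_c0 : allI (fun i => lowOK D.T lN1 3 0 wr0 i) 0 540 = true := by decide +kernel
theorem hL0c1_u0 : ∀ i, i < 540 → (fun i => lowOK D.T lN1 3 0 wr0 i) i = true :=
  allI_join allI_start hL0c1_c0 rfl
theorem hL0c1 : ∀ i, i < 540 → (fun i => lowOK D.T lN1 3 0 wr0 i) i = true := hL0c1_u0
theorem hL0c2_c0 : allI (fun i => lowOK D.T lN2 3 0 wr0 i) 0 540 = true := by decide +kernel
theorem hL0c2_u0 : ∀ i, i < 540 → (fun i => lowOK D.T lN2 3 0 wr0 i) i = true :=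
  allI_join allI_start hL0c2_c0 rfl
theorem hL0c2 : ∀ i, i < 540 → (fun i => lowOK D.T lN2 3 0 wr0 i) i = true := hL0c2_u0
theorem hL1c0_c0 : allI (fun i => lowOK D.T lN0 4 0 wr1 i) 0 540 = true := by decide +kernel
theorem hL1c0_u0 : ∀ i, i < 540 → (fun i => lowOK D.T lN0 4 0 wr1 i) i = true :=
  allI_join allI_start hL1c0_c0 rfl
theorem hL1c0 : ∀ i, i < 540 → (fun i => lowOK D.T lN0 4 0 wr1 i) i = true := hL1c0_u0
theorem hL1c1_c0 : allI (fun i => lowOK D.T lN1 3 0 wr1 i) 0 540 = true := by decide +kernel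
theorem hL1c1_u0 : ∀ i, i < 540 → (fun i => lowOK D.T lN1 3 0 wr1 i) i = true :=
  allI_join allI_start hL1c1_c0 rfl
theorem hL1c1 : ∀ i, i < 540 → (fun i => lowOK D.T lN1 3 0 wr1 i) i = true := hL1c1_u0
theorem hL1c2_c0 : allI (fun i => lowOK D.T lN2 3 0 wr1 i) 0 540 = true := by decide +kernel
theorem hL1c2_u0 : ∀ i, i < 540 → (fun i => lowOK D.T lN2 3 0 wr1 i) i = true :=
  allI_join allI_start hL1c2_c0 rfl
theorem hL1c2 : ∀ i, i < 540 → (fun i => lowOK D.T lN2 3 0 wr1 i) i = true := hL1c2_u0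
theorem hL2c0_c0 : allI (fun i => lowOK D.T lN0 4 0 wr2 i) 0 540 = true := by decide +kernel
theorem hL2c0_u0 : ∀ i, i < 540 → (fun i => lowOK D.T lN0 4 0 wr2 i) i = true :=
  allI_join allI_start hL2c0_c0 rfl
theorem hL2c0 : ∀ i, i < 540 → (fun i => lowOK D.T lN0 4 0 wr2 i) i = true := hL2c0_u0
theorem hL2c1_c0 : allI (fun i => lowOK D.T lN1 3 0 wr2 i) 0 540 = true := by decide +kernel
theorem hL2c1_u0 : ∀ i, i < 540 → (fun i => lowOK D.T lN1 3 0 wr2 i) i = true :=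
  allI_join allI_start hL2c1_c0 rfl
theorem hL2c1 : ∀ i, i < 540 → (fun i => lowOK D.T lN1 3 0 wr2 i) i = true := hL2c1_u0
theorem hL2c2_c0 : allI (fun i => lowOK D.T lN2 3 0 wr2 i) 0 540 = true := by decide +kernel
theorem hL2c2_u0 : ∀ i, i < 540 → (fun i => lowOK D.T lN2 3 0 wr2 i) i = true :=
  allI_join allI_start hL2c2_c0 rfl
theorem hL2c2 : ∀ i, i < 540 → (fun i => lowOK D.T lN2 3 0 wr2 i) i = true := hL2c2_u0
theorem hL3c0_c0 : allI (fun i => lowOK D.T lN0 4 0 wr3 i) 0 540 = true := by decide +kernel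
theorem hL3c0_u0 : ∀ i, i < 540 → (fun i => lowOK D.T lN0 4 0 wr3 i) i = true :=
  allI_join allI_start hL3c0_c0 rfl
theorem hL3c0 : ∀ i, i < 540 → (fun i => lowOK D.T lN0 4 0 wr3 i) i = true := hL3c0_u0
theorem hL3c1_c0 : allI (fun i => lowOK D.T lN1 3 0 wr3 i) 0 540 = true := by decide +kernel
theorem hL3c1_u0 : ∀ i, i < 540 → (fun i => lowOK D.T lN1 3 0 wr3 i) i = true :=
  allI_join allI_start hL3c1_c0 rfl
theorem hL3c1 : ∀ i, i < 540 → (fun i => lowOK D.T lN1 3 0 wr3 i) i = true := hL3c1_u0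
theorem hL3c2_c0 : allI (fun i => lowOK D.T lN2 3 0 wr3 i) 0 540 = true := by decide +kernel
theorem hL3c2_u0 : ∀ i, i < 540 → (fun i => lowOK D.T lN2 3 0 wr3 i) i = true :=
  allI_join allI_start hL3c2_c0 rfl
theorem hL3c2 : ∀ i, i < 540 → (fun i => lowOK D.T lN2 3 0 wr3 i) i = true := hL3c2_u0
theorem hL4c0_c0 : allI (fun i => lowOK D.T lN0 4 2 wr4 i) 0 540 = true := by decide +kernel
theorem hL4c0_u0 : ∀ i, i < 540 → (fun i => lowOK D.T lN0 4 2 wr4 i) i = true :=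
  allI_join allI_start hL4c0_c0 rfl
theorem hL4c0 : ∀ i, i < 540 → (fun i => lowOK D.T lN0 4 2 wr4 i) i = true := hL4c0_u0
theorem hL4c1_c0 : allI (fun i => lowOK D.T lN1 3 0 wr4 i) 0 540 = true := by decide +kernel
theorem hL4c1_u0 : ∀ i, i < 540 → (fun i => lowOK D.T lN1 3 0 wr4 i) i = true :=
  allI_join allI_start hL4c1_c0 rfl
theorem hL4c1 : ∀ i, i < 540 → (fun i => lowOK D.T lN1 3 0 wr4 i) i = true := hL4c1_u0
theorem hL4c2_c0 : allI (fun i => lowOK D.T lN2 3 0 wr4 i) 0 540 = true := by decide +kernel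
theorem hL4c2_u0 : ∀ i, i < 540 → (fun i => lowOK D.T lN2 3 0 wr4 i) i = true :=
  allI_join allI_start hL4c2_c0 rfl
theorem hL4c2 : ∀ i, i < 540 → (fun i => lowOK D.T lN2 3 0 wr4 i) i = true := hL4c2_u0
theorem hL5c0_c0 : allI (fun i => lowOK D.T lN0 4 0 wr5 i) 0 540 = true := by decide +kernel
theorem hL5c0_u0 : ∀ i, i < 540 → (fun i => lowOK D.T lN0 4 0 wr5 i) i = true :=
  allI_join allI_start hL5c0_c0 rfl
theorem hL5c0 : ∀ i, i < 540 → (fun i => lowOK D.T lN0 4 0 wr5 i) i = true := hL5c0_u0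
theorem hL5c1_c0 : allI (fun i => lowOK D.T lN1 3 1 wr5 i) 0 540 = true := by decide +kernel
theorem hL5c1_u0 : ∀ i, i < 540 → (fun i => lowOK D.T lN1 3 1 wr5 i) i = true :=
  allI_join allI_start hL5c1_c0 rfl
theorem hL5c1 : ∀ i, i < 540 → (fun i => lowOK D.T lN1 3 1 wr5 i) i = true := hL5c1_u0
theorem hL5c2_c0 : allI (fun i => lowOK D.T lN2 3 0 wr5 i) 0 540 = true := by decide +kernel
theorem hL5c2_u0 : ∀ i, i < 540 → (fun i => lowOK D.T lN2 3 0 wr5 i) i = true :=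
  allI_join allI_start hL5c2_c0 rfl
theorem hL5c2 : ∀ i, i < 540 → (fun i => lowOK D.T lN2 3 0 wr5 i) i = true := hL5c2_u0
theorem hL6c0_c0 : allI (fun i => lowOK D.T lN0 4 0 wr6 i) 0 540 = true := by decide +kernel
theorem hL6c0_u0 : ∀ i, i < 540 → (fun i => lowOK D.T lN0 4 0 wr6 i) i = true :=
  allI_join allI_start hL6c0_c0 rfl
theorem hL6c0 : ∀ i, i < 540 → (fun i => lowOK D.T lN0 4 0 wr6 i) i = true := hL6c0_u0
theorem hL6c1_c0 : allI (fun i => lowOK D.T lN1 3 0 wr6 i) 0 540 = true := by decide +kernel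
theorem hL6c1_u0 : ∀ i, i < 540 → (fun i => lowOK D.T lN1 3 0 wr6 i) i = true :=
  allI_join allI_start hL6c1_c0 rfl
theorem hL6c1 : ∀ i, i < 540 → (fun i => lowOK D.T lN1 3 0 wr6 i) i = true := hL6c1_u0
theorem hL6c2_c0 : allI (fun i => lowOK D.T lN2 3 0 wr6 i) 0 540 = true := by decide +kernel
theorem hL6c2_u0 : ∀ i, i < 540 → (fun i => lowOK D.T lN2 3 0 wr6 i) i = true :=
  allI_join allI_start hL6c2_c0 rfl
theorem hL6c2 : ∀ i, i < 540 → (fun i => lowOK D.T lN2 3 0 wr6 i) i = true := hL6c2_u0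
theorem hL7c0_c0 : allI (fun i => lowOK D.T lN0 4 2 wr7 i) 0 540 = true := by decide +kernel
theorem hL7c0_u0 : ∀ i, i < 540 → (fun i => lowOK D.T lN0 4 2 wr7 i) i = true :=
  allI_join allI_start hL7c0_c0 rfl
theorem hL7c0 : ∀ i, i < 540 → (fun i => lowOK D.T lN0 4 2 wr7 i) i = true := hL7c0_u0
theorem hL7c1_c0 : allI (fun i => lowOK D.T lN1 3 0 wr7 i) 0 540 = true := by decide +kernel
theorem hL7c1_u0 : ∀ i, i < 540 → (fun i => lowOK D.T lN1 3 0 wr7 i) i = true :=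
  allI_join allI_start hL7c1_c0 rfl
theorem hL7c1 : ∀ i, i < 540 → (fun i => lowOK D.T lN1 3 0 wr7 i) i = true := hL7c1_u0
theorem hL7c2_c0 : allI (fun i => lowOK D.T lN2 3 2 wr7 i) 0 540 = true := by decide +kernel
theorem hL7c2_u0 : ∀ i, i < 540 → (fun i => lowOK D.T lN2 3 2 wr7 i) i = true :=
  allI_join allI_start hL7c2_c0 rfl
theorem hL7c2 : ∀ i, i < 540 → (fun i => lowOK D.T lN2 3 2 wr7 i) i = true := hL7c2_u0
theorem hL8c0_c0 : allI (fun i => lowOK D.T lN0 4 0 wr8 i) 0 540 = true := by decide +kernel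
theorem hL8c0_u0 : ∀ i, i < 540 → (fun i => lowOK D.T lN0 4 0 wr8 i) i = true :=
  allI_join allI_start hL8c0_c0 rfl
theorem hL8c0 : ∀ i, i < 540 → (fun i => lowOK D.T lN0 4 0 wr8 i) i = true := hL8c0_u0
theorem hL8c1_c0 : allI (fun i => lowOK D.T lN1 3 0 wr8 i) 0 540 = true := by decide +kernel
theorem hL8c1_u0 : ∀ i, i < 540 → (fun i => lowOK D.T lN1 3 0 wr8 i) i = true :=
  allI_join allI_start hL8c1_c0 rfl
theorem hL8c1 : ∀ i, i < 540 → (fun i => lowOK D.T lN1 3 0 wr8 i) i = true := hL8c1_u0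
theorem hL8c2_c0 : allI (fun i => lowOK D.T lN2 3 0 wr8 i) 0 540 = true := by decide +kernel
theorem hL8c2_u0 : ∀ i, i < 540 → (fun i => lowOK D.T lN2 3 0 wr8 i) i = true :=
  allI_join allI_start hL8c2_c0 rfl
theorem hL8c2 : ∀ i, i < 540 → (fun i => lowOK D.T lN2 3 0 wr8 i) i = true := hL8c2_u0
theorem hL9c0_c0 : allI (fun i => lowOK D.T lN0 4 1 wr9 i) 0 540 = true := by decide +kernel
theorem hL9c0_u0 : ∀ i, i < 540 → (fun i => lowOK D.T lN0 4 1 wr9 i) i = true :=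
  allI_join allI_start hL9c0_c0 rfl
theorem hL9c0 : ∀ i, i < 540 → (fun i => lowOK D.T lN0 4 1 wr9 i) i = true := hL9c0_u0
theorem hL9c1_c0 : allI (fun i => lowOK D.T lN1 3 0 wr9 i) 0 540 = true := by decide +kernel
theorem hL9c1_u0 : ∀ i, i < 540 → (fun i => lowOK D.T lN1 3 0 wr9 i) i = true :=
  allI_join allI_start hL9c1_c0 rfl
theorem hL9c1 : ∀ i, i < 540 → (fun i => lowOK D.T lN1 3 0 wr9 i) i = true := hL9c1_u0
theorem hL9c2_c0 : allI (fun i => lowOK D.T lN2 3 2 wr9 i) 0 540 = true := by decide +kernel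
theorem hL9c2_u0 : ∀ i, i < 540 → (fun i => lowOK D.T lN2 3 2 wr9 i) i = true :=
  allI_join allI_start hL9c2_c0 rfl
theorem hL9c2 : ∀ i, i < 540 → (fun i => lowOK D.T lN2 3 2 wr9 i) i = true := hL9c2_u0
theorem hL10c0_c0 : allI (fun i => lowOK D.T lN0 4 0 wr10 i) 0 540 = true := by decide +kernel
theorem hL10c0_u0 : ∀ i, i < 540 → (fun i => lowOK D.T lN0 4 0 wr10 i) i = true :=
  allI_join allI_start hL10c0_c0 rfl
theorem hL10c0 : ∀ i, i < 540 → (fun i => lowOK D.T lN0 4 0 wr10 i) i = true := hL10c0_u0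
theorem hL10c1_c0 : allI (fun i => lowOK D.T lN1 3 0 wr10 i) 0 540 = true := by decide +kernel
theorem hL10c1_u0 : ∀ i, i < 540 → (fun i => lowOK D.T lN1 3 0 wr10 i) i = true :=
  allI_join allI_start hL10c1_c0 rfl
theorem hL10c1 : ∀ i, i < 540 → (fun i => lowOK D.T lN1 3 0 wr10 i) i = true := hL10c1_u0
theorem hL10c2_c0 : allI (fun i => lowOK D.T lN2 3 0 wr10 i) 0 540 = true := by decide +kernel
theorem hL10c2_u0 : ∀ i, i < 540 → (fun i => lowOK D.T lN2 3 0 wr10 i) i = true :=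
  allI_join allI_start hL10c2_c0 rfl
theorem hL10c2 : ∀ i, i < 540 → (fun i => lowOK D.T lN2 3 0 wr10 i) i = true := hL10c2_u0
theorem hL11c0_c0 : allI (fun i => lowOK D.T lN0 4 0 wr11 i) 0 540 = true := by decide +kernel
theorem hL11c0_u0 : ∀ i, i < 540 → (fun i => lowOK D.T lN0 4 0 wr11 i) i = true :=
  allI_join allI_start hL11c0_c0 rfl
theorem hL11c0 : ∀ i, i < 540 → (fun i => lowOK D.T lN0 4 0 wr11 i) i = true := hL11c0_u0
theorem hL11c1_c0 : allI (fun i => lowOK D.T lN1 3 0 wr11 i) 0 540 = true := by decide +kernel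
theorem hL11c1_u0 : ∀ i, i < 540 → (fun i => lowOK D.T lN1 3 0 wr11 i) i = true :=
  allI_join allI_start hL11c1_c0 rfl
theorem hL11c1 : ∀ i, i < 540 → (fun i => lowOK D.T lN1 3 0 wr11 i) i = true := hL11c1_u0
theorem hL11c2_c0 : allI (fun i => lowOK D.T lN2 3 0 wr11 i) 0 540 = true := by decide +kernel
theorem hL11c2_u0 : ∀ i, i < 540 → (fun i => lowOK D.T lN2 3 0 wr11 i) i = true :=
  allI_join allI_start hL11c2_c0 rfl
theorem hL11c2 : ∀ i, i < 540 → (fun i => lowOK D.T lN2 3 0 wr11 i) i = true := hL11c2_u0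
theorem hLP2c0_c0 : allI (fun i => lowOK D.T lN0 4 2 pw2 i) 0 540 = true := by decide +kernel
theorem hLP2c0_u0 : ∀ i, i < 540 → (fun i => lowOK D.T lN0 4 2 pw2 i) i = true :=
  allI_join allI_start hLP2c0_c0 rfl
theorem hLP2c0 : ∀ i, i < 540 → (fun i => lowOK D.T lN0 4 2 pw2 i) i = true := hLP2c0_u0
theorem hLP2c1_c0 : allI (fun i => lowOK D.T lN1 3 1 pw2 i) 0 540 = true := by decide +kernel
theorem hLP2c1_u0 : ∀ i, i < 540 → (fun i => lowOK D.T lN1 3 1 pw2 i) i = true :=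
  allI_join allI_start hLP2c1_c0 rfl
theorem hLP2c1 : ∀ i, i < 540 → (fun i => lowOK D.T lN1 3 1 pw2 i) i = true := hLP2c1_u0
theorem hLP2c2_c0 : allI (fun i => lowOK D.T lN2 3 1 pw2 i) 0 540 = true := by decide +kernel
theorem hLP2c2_u0 : ∀ i, i < 540 → (fun i => lowOK D.T lN2 3 1 pw2 i) i = true :=
  allI_join allI_start hLP2c2_c0 rfl
theorem hLP2c2 : ∀ i, i < 540 → (fun i => lowOK D.T lN2 3 1 pw2 i) i = true := hLP2c2_u0
theorem hLP4c0_c0 : allI (fun i => lowOK D.T lN0 4 0 pw4 i) 0 540 = true := by decide +kernel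
theorem hLP4c0_u0 : ∀ i, i < 540 → (fun i => lowOK D.T lN0 4 0 pw4 i) i = true :=
  allI_join allI_start hLP4c0_c0 rfl
theorem hLP4c0 : ∀ i, i < 540 → (fun i => lowOK D.T lN0 4 0 pw4 i) i = true := hLP4c0_u0
theorem hLP4c1_c0 : allI (fun i => lowOK D.T lN1 3 2 pw4 i) 0 540 = true := by decide +kernel
theorem hLP4c1_u0 : ∀ i, i < 540 → (fun i => lowOK D.T lN1 3 2 pw4 i) i = true :=
  allI_join allI_start hLP4c1_c0 rfl
theorem hLP4c1 : ∀ i, i < 540 → (fun i => lowOK D.T lN1 3 2 pw4 i) i = true := hLP4c1_u0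
theorem hLP4c2_c0 : allI (fun i => lowOK D.T lN2 3 2 pw4 i) 0 540 = true := by decide +kernel
theorem hLP4c2_u0 : ∀ i, i < 540 → (fun i => lowOK D.T lN2 3 2 pw4 i) i = true :=
  allI_join allI_start hLP4c2_c0 rfl
theorem hLP4c2 : ∀ i, i < 540 → (fun i => lowOK D.T lN2 3 2 pw4 i) i = true := hLP4c2_u0
theorem hLP5c0_c0 : allI (fun i => lowOK D.T lN0 4 2 pw5 i) 0 540 = true := by decide +kernel
theorem hLP5c0_u0 : ∀ i, i < 540 → (fun i => lowOK D.T lN0 4 2 pw5 i) i = true :=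
  allI_join allI_start hLP5c0_c0 rfl
theorem hLP5c0 : ∀ i, i < 540 → (fun i => lowOK D.T lN0 4 2 pw5 i) i = true := hLP5c0_u0
theorem hLP5c1_c0 : allI (fun i => lowOK D.T lN1 3 0 pw5 i) 0 540 = true := by decide +kernel
theorem hLP5c1_u0 : ∀ i, i < 540 → (fun i => lowOK D.T lN1 3 0 pw5 i) i = true :=
  allI_join allI_start hLP5c1_c0 rfl
theorem hLP5c1 : ∀ i, i < 540 → (fun i => lowOK D.T lN1 3 0 pw5 i) i = true := hLP5c1_u0
theorem hLP5c2_c0 : allI (fun i => lowOK D.T lN2 3 0 pw5 i) 0 540 = true := by decide +kernel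
theorem hLP5c2_u0 : ∀ i, i < 540 → (fun i => lowOK D.T lN2 3 0 pw5 i) i = true :=
  allI_join allI_start hLP5c2_c0 rfl
theorem hLP5c2 : ∀ i, i < 540 → (fun i => lowOK D.T lN2 3 0 pw5 i) i = true := hLP5c2_u0
theorem hLP6c0_c0 : allI (fun i => lowOK D.T lN0 4 3 pw6 i) 0 540 = true := by decide +kernel
theorem hLP6c0_u0 : ∀ i, i < 540 → (fun i => lowOK D.T lN0 4 3 pw6 i) i = true :=
  allI_join allI_start hLP6c0_c0 rfl
theorem hLP6c0 : ∀ i, i < 540 → (fun i => lowOK D.T lN0 4 3 pw6 i) i = true := hLP6c0_u0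
theorem hLP6c1_c0 : allI (fun i => lowOK D.T lN1 3 1 pw6 i) 0 540 = true := by decide +kernel
theorem hLP6c1_u0 : ∀ i, i < 540 → (fun i => lowOK D.T lN1 3 1 pw6 i) i = true :=
  allI_join allI_start hLP6c1_c0 rfl
theorem hLP6c1 : ∀ i, i < 540 → (fun i => lowOK D.T lN1 3 1 pw6 i) i = true := hLP6c1_u0
theorem hLP6c2_c0 : allI (fun i => lowOK D.T lN2 3 1 pw6 i) 0 540 = true := by decide +kernel
theorem hLP6c2_u0 : ∀ i, i < 540 → (fun i => lowOK D.T lN2 3 1 pw6 i) i = true :=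
  allI_join allI_start hLP6c2_c0 rfl
theorem hLP6c2 : ∀ i, i < 540 → (fun i => lowOK D.T lN2 3 1 pw6 i) i = true := hLP6c2_u0
theorem hES0c0_c0 : allI (fun i => lowOK D.T lN0 4 0 wES0 i) 0 540 = true := by decide +kernel
theorem hES0c0_u0 : ∀ i, i < 540 → (fun i => lowOK D.T lN0 4 0 wES0 i) i = true :=
  allI_join allI_start hES0c0_c0 rfl
theorem hES0c0 : ∀ i, i < 540 → (fun i => lowOK D.T lN0 4 0 wES0 i) i = true := hES0c0_u0
theorem hES0c1_c0 : allI (fun i => lowOK D.T lN1 3 0 wES0 i) 0 540 = true := by decide +kernel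
theorem hES0c1_u0 : ∀ i, i < 540 → (fun i => lowOK D.T lN1 3 0 wES0 i) i = true :=
  allI_join allI_start hES0c1_c0 rfl
theorem hES0c1 : ∀ i, i < 540 → (fun i => lowOK D.T lN1 3 0 wES0 i) i = true := hES0c1_u0
theorem hES0c2_c0 : allI (fun i => lowOK D.T lN2 3 0 wES0 i) 0 540 = true := by decide +kernel
theorem hES0c2_u0 : ∀ i, i < 540 → (fun i => lowOK D.T lN2 3 0 wES0 i) i = true :=
  allI_join allI_start hES0c2_c0 rfl
theorem hES0c2 : ∀ i, i < 540 → (fun i => lowOK D.T lN2 3 0 wES0 i) i = true := hES0c2_u0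
theorem hES1c0_c0 : allI (fun i => lowOK D.T lN0 4 0 wES1 i) 0 540 = true := by decide +kernel
theorem hES1c0_u0 : ∀ i, i < 540 → (fun i => lowOK D.T lN0 4 0 wES1 i) i = true :=
  allI_join allI_start hES1c0_c0 rfl
theorem hES1c0 : ∀ i, i < 540 → (fun i => lowOK D.T lN0 4 0 wES1 i) i = true := hES1c0_u0
theorem hES1c1_c0 : allI (fun i => lowOK D.T lN1 3 0 wES1 i) 0 540 = true := by decide +kernel
theorem hES1c1_u0 : ∀ i, i < 540 → (fun i => lowOK D.T lN1 3 0 wES1 i) i = true :=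
  allI_join allI_start hES1c1_c0 rfl
theorem hES1c1 : ∀ i, i < 540 → (fun i => lowOK D.T lN1 3 0 wES1 i) i = true := hES1c1_u0
theorem hES1c2_c0 : allI (fun i => lowOK D.T lN2 3 0 wES1 i) 0 540 = true := by decide +kernel
theorem hES1c2_u0 : ∀ i, i < 540 → (fun i => lowOK D.T lN2 3 0 wES1 i) i = true :=
  allI_join allI_start hES1c2_c0 rfl
theorem hES1c2 : ∀ i, i < 540 → (fun i => lowOK D.T lN2 3 0 wES1 i) i = true := hES1c2_u0
theorem hES2c0_c0 : allI (fun i => lowOK D.T lN0 4 0 wES2 i) 0 540 = true := by decide +kernel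
theorem hES2c0_u0 : ∀ i, i < 540 → (fun i => lowOK D.T lN0 4 0 wES2 i) i = true :=
  allI_join allI_start hES2c0_c0 rfl
theorem hES2c0 : ∀ i, i < 540 → (fun i => lowOK D.T lN0 4 0 wES2 i) i = true := hES2c0_u0
theorem hES2c1_c0 : allI (fun i => lowOK D.T lN1 3 0 wES2 i) 0 540 = true := by decide +kernel
theorem hES2c1_u0 : ∀ i, i < 540 → (fun i => lowOK D.T lN1 3 0 wES2 i) i = true :=
  allI_join allI_start hES2c1_c0 rfl
theorem hES2c1 : ∀ i, i < 540 → (fun i => lowOK D.T lN1 3 0 wES2 i) i = true := hES2c1_u0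
theorem hES2c2_c0 : allI (fun i => lowOK D.T lN2 3 0 wES2 i) 0 540 = true := by decide +kernel
theorem hES2c2_u0 : ∀ i, i < 540 → (fun i => lowOK D.T lN2 3 0 wES2 i) i = true :=
  allI_join allI_start hES2c2_c0 rfl
theorem hES2c2 : ∀ i, i < 540 → (fun i => lowOK D.T lN2 3 0 wES2 i) i = true := hES2c2_u0
theorem hES3c0_c0 : allI (fun i => lowOK D.T lN0 4 0 wES3 i) 0 540 = true := by decide +kernel
theorem hES3c0_u0 : ∀ i, i < 540 → (fun i => lowOK D.T lN0 4 0 wES3 i) i = true :=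
  allI_join allI_start hES3c0_c0 rfl
theorem hES3c0 : ∀ i, i < 540 → (fun i => lowOK D.T lN0 4 0 wES3 i) i = true := hES3c0_u0
theorem hES3c1_c0 : allI (fun i => lowOK D.T lN1 3 0 wES3 i) 0 540 = true := by decide +kernel
theorem hES3c1_u0 : ∀ i, i < 540 → (fun i => lowOK D.T lN1 3 0 wES3 i) i = true :=
  allI_join allI_start hES3c1_c0 rfl
theorem hES3c1 : ∀ i, i < 540 → (fun i => lowOK D.T lN1 3 0 wES3 i) i = true := hES3c1_u0
theorem hES3c2_c0 : allI (fun i => lowOK D.T lN2 3 0 wES3 i) 0 540 = true := by decide +kernel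
theorem hES3c2_u0 : ∀ i, i < 540 → (fun i => lowOK D.T lN2 3 0 wES3 i) i = true :=
  allI_join allI_start hES3c2_c0 rfl
theorem hES3c2 : ∀ i, i < 540 → (fun i => lowOK D.T lN2 3 0 wES3 i) i = true := hES3c2_u0
theorem hES4c0_c0 : allI (fun i => lowOK D.T lN0 4 0 wES4 i) 0 540 = true := by decide +kernel
theorem hES4c0_u0 : ∀ i, i < 540 → (fun i => lowOK D.T lN0 4 0 wES4 i) i = true :=
  allI_join allI_start hES4c0_c0 rfl
theorem hES4c0 : ∀ i, i < 540 → (fun i => lowOK D.T lN0 4 0 wES4 i) i = true := hES4c0_u0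
theorem hES4c1_c0 : allI (fun i => lowOK D.T lN1 3 1 wES4 i) 0 540 = true := by decide +kernel
theorem hES4c1_u0 : ∀ i, i < 540 → (fun i => lowOK D.T lN1 3 1 wES4 i) i = true :=
  allI_join allI_start hES4c1_c0 rfl
theorem hES4c1 : ∀ i, i < 540 → (fun i => lowOK D.T lN1 3 1 wES4 i) i = true := hES4c1_u0
theorem hES4c2_c0 : allI (fun i => lowOK D.T lN2 3 2 wES4 i) 0 540 = true := by decide +kernel
theorem hES4c2_u0 : ∀ i, i < 540 → (fun i => lowOK D.T lN2 3 2 wES4 i) i = true :=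
  allI_join allI_start hES4c2_c0 rfl
theorem hES4c2 : ∀ i, i < 540 → (fun i => lowOK D.T lN2 3 2 wES4 i) i = true := hES4c2_u0
theorem hES5c0_c0 : allI (fun i => lowOK D.T lN0 4 2 wES5 i) 0 540 = true := by decide +kernel
theorem hES5c0_u0 : ∀ i, i < 540 → (fun i => lowOK D.T lN0 4 2 wES5 i) i = true :=
  allI_join allI_start hES5c0_c0 rfl
theorem hES5c0 : ∀ i, i < 540 → (fun i => lowOK D.T lN0 4 2 wES5 i) i = true := hES5c0_u0
theorem hES5c1_c0 : allI (fun i => lowOK D.T lN1 3 0 wES5 i) 0 540 = true := by decide +kernel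
theorem hES5c1_u0 : ∀ i, i < 540 → (fun i => lowOK D.T lN1 3 0 wES5 i) i = true :=
  allI_join allI_start hES5c1_c0 rfl
theorem hES5c1 : ∀ i, i < 540 → (fun i => lowOK D.T lN1 3 0 wES5 i) i = true := hES5c1_u0
theorem hES5c2_c0 : allI (fun i => lowOK D.T lN2 3 0 wES5 i) 0 540 = true := by decide +kernel
theorem hES5c2_u0 : ∀ i, i < 540 → (fun i => lowOK D.T lN2 3 0 wES5 i) i = true :=
  allI_join allI_start hES5c2_c0 rfl
theorem hES5c2 : ∀ i, i < 540 → (fun i => lowOK D.T lN2 3 0 wES5 i) i = true := hES5c2_u0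
theorem hES6c0_c0 : allI (fun i => lowOK D.T lN0 4 2 wES6 i) 0 540 = true := by decide +kernel
theorem hES6c0_u0 : ∀ i, i < 540 → (fun i => lowOK D.T lN0 4 2 wES6 i) i = true :=
  allI_join allI_start hES6c0_c0 rfl
theorem hES6c0 : ∀ i, i < 540 → (fun i => lowOK D.T lN0 4 2 wES6 i) i = true := hES6c0_u0
theorem hES6c1_c0 : allI (fun i => lowOK D.T lN1 3 1 wES6 i) 0 540 = true := by decide +kernel
theorem hES6c1_u0 : ∀ i, i < 540 → (fun i => lowOK D.T lN1 3 1 wES6 i) i = true :=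
  allI_join allI_start hES6c1_c0 rfl
theorem hES6c1 : ∀ i, i < 540 → (fun i => lowOK D.T lN1 3 1 wES6 i) i = true := hES6c1_u0
theorem hES6c2_c0 : allI (fun i => lowOK D.T lN2 3 0 wES6 i) 0 540 = true := by decide +kernel
theorem hES6c2_u0 : ∀ i, i < 540 → (fun i => lowOK D.T lN2 3 0 wES6 i) i = true :=
  allI_join allI_start hES6c2_c0 rfl
theorem hES6c2 : ∀ i, i < 540 → (fun i => lowOK D.T lN2 3 0 wES6 i) i = true := hES6c2_u0
theorem hES7c0_c0 : allI (fun i => lowOK D.T lN0 4 3 wES7 i) 0 540 = true := by decide +kernel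
theorem hES7c0_u0 : ∀ i, i < 540 → (fun i => lowOK D.T lN0 4 3 wES7 i) i = true :=
  allI_join allI_start hES7c0_c0 rfl
theorem hES7c0 : ∀ i, i < 540 → (fun i => lowOK D.T lN0 4 3 wES7 i) i = true := hES7c0_u0
theorem hES7c1_c0 : allI (fun i => lowOK D.T lN1 3 2 wES7 i) 0 540 = true := by decide +kernel
theorem hES7c1_u0 : ∀ i, i < 540 → (fun i => lowOK D.T lN1 3 2 wES7 i) i = true :=
  allI_join allI_start hES7c1_c0 rfl
theorem hES7c1 : ∀ i, i < 540 → (fun i => lowOK D.T lN1 3 2 wES7 i) i = true := hES7c1_u0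
theorem hES7c2_c0 : allI (fun i => lowOK D.T lN2 3 1 wES7 i) 0 540 = true := by decide +kernel
theorem hES7c2_u0 : ∀ i, i < 540 → (fun i => lowOK D.T lN2 3 1 wES7 i) i = true :=
  allI_join allI_start hES7c2_c0 rfl
theorem hES7c2 : ∀ i, i < 540 → (fun i => lowOK D.T lN2 3 1 wES7 i) i = true := hES7c2_u0
theorem hES8c0_c0 : allI (fun i => lowOK D.T lN0 4 1 wES8 i) 0 540 = true := by decide +kernel
theorem hES8c0_u0 : ∀ i, i < 540 → (fun i => lowOK D.T lN0 4 1 wES8 i) i = true :=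
  allI_join allI_start hES8c0_c0 rfl
theorem hES8c0 : ∀ i, i < 540 → (fun i => lowOK D.T lN0 4 1 wES8 i) i = true := hES8c0_u0
theorem hES8c1_c0 : allI (fun i => lowOK D.T lN1 3 1 wES8 i) 0 540 = true := by decide +kernel
theorem hES8c1_u0 : ∀ i, i < 540 → (fun i => lowOK D.T lN1 3 1 wES8 i) i = true :=
  allI_join allI_start hES8c1_c0 rfl
theorem hES8c1 : ∀ i, i < 540 → (fun i => lowOK D.T lN1 3 1 wES8 i) i = true := hES8c1_u0

end Cfsg.Agent.Lib.KnownSimple.U43Lab
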