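import Cfsg.Agent.Lib.KnownSimple.U43Lab.Data

set_option autoImplicit false
set_option maxRecDepth 100000

namespace Cfsg.Agent.Lib.KnownSimple.U43Lab

open Cfsg.Agent.Lib.KnownSimple.Lab Cfsg.Agent.Lib.KnownSimple.U43Lab Dat

theorem hES8c2_c0 : allI (fun i => lowOK D.T lN2 3 1 wES8 i) 0 540 = true := by decide +kernel
theorem hES8c2_u0 : ∀ i, i < 540 → (fun i => lowOK D.T lN2 3 1 wES8 i) i = true :=
  allI_join allI_start hES8c2_c0 rfl
theorem hES8c2 : ∀ i, i < 540 → (fun i => lowOK D.T lN2 3 1 wES8 i) i = true := hES8c2_u0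
theorem hES9c0_c0 : allI (fun i => lowOK D.T lN0 4 3 wES9 i) 0 337 = true := by decide +kernel
theorem hES9c0_u0 : ∀ i, i < 337 → (fun i => lowOK D.T lN0 4 3 wES9 i) i = true :=
  allI_join allI_start hES9c0_c0 rfl
theorem hES9c0_c1 : allI (fun i => lowOK D.T lN0 4 3 wES9 i) 337 203 = true := by decide +kernel
theorem hES9c0_u1 : ∀ i, i < 540 → (fun i => lowOK D.T lN0 4 3 wES9 i) i = true :=
  allI_join hES9c0_u0 hES9c0_c1 rfl
theorem hES9c0 : ∀ i, i < 540 → (fun i => lowOK D.T lN0 4 3 wES9 i) i = true := hES9c0_u1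
theorem hES9c1_c0 : allI (fun i => lowOK D.T lN1 3 2 wES9 i) 0 337 = true := by decide +kernel
theorem hES9c1_u0 : ∀ i, i < 337 → (fun i => lowOK D.T lN1 3 2 wES9 i) i = true :=
  allI_join allI_start hES9c1_c0 rfl
theorem hES9c1_c1 : allI (fun i => lowOK D.T lN1 3 2 wES9 i) 337 203 = true := by decide +kernel
theorem hES9c1_u1 : ∀ i, i < 540 → (fun i => lowOK D.T lN1 3 2 wES9 i) i = true :=
  allI_join hES9c1_u0 hES9c1_c1 rfl
theorem hES9c1 : ∀ i, i < 540 → (fun i => lowOK D.T lN1 3 2 wES9 i) i = true := hES9c1_u1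
theorem hES9c2_c0 : allI (fun i => lowOK D.T lN2 3 2 wES9 i) 0 337 = true := by decide +kernel
theorem hES9c2_u0 : ∀ i, i < 337 → (fun i => lowOK D.T lN2 3 2 wES9 i) i = true :=
  allI_join allI_start hES9c2_c0 rfl
theorem hES9c2_c1 : allI (fun i => lowOK D.T lN2 3 2 wES9 i) 337 203 = true := by decide +kernel
theorem hES9c2_u1 : ∀ i, i < 540 → (fun i => lowOK D.T lN2 3 2 wES9 i) i = true :=
  allI_join hES9c2_u0 hES9c2_c1 rfl
theorem hES9c2 : ∀ i, i < 540 → (fun i => lowOK D.T lN2 3 2 wES9 i) i = true := hES9c2_u1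
theorem hES10c0_c0 : allI (fun i => lowOK D.T lN0 4 0 wES10 i) 0 362 = true := by decide +kernel
theorem hES10c0_u0 : ∀ i, i < 362 → (fun i => lowOK D.T lN0 4 0 wES10 i) i = true :=
  allI_join allI_start hES10c0_c0 rfl
theorem hES10c0_c1 : allI (fun i => lowOK D.T lN0 4 0 wES10 i) 362 178 = true := by decide +kernel
theorem hES10c0_u1 : ∀ i, i < 540 → (fun i => lowOK D.T lN0 4 0 wES10 i) i = true :=
  allI_join hES10c0_u0 hES10c0_c1 rfl
theorem hES10c0 : ∀ i, i < 540 → (fun i => lowOK D.T lN0 4 0 wES10 i) i = true := hES10c0_u1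
theorem hES10c1_c0 : allI (fun i => lowOK D.T lN1 3 0 wES10 i) 0 362 = true := by decide +kernel
theorem hES10c1_u0 : ∀ i, i < 362 → (fun i => lowOK D.T lN1 3 0 wES10 i) i = true :=
  allI_join allI_start hES10c1_c0 rfl
theorem hES10c1_c1 : allI (fun i => lowOK D.T lN1 3 0 wES10 i) 362 178 = true := by decide +kernel
theorem hES10c1_u1 : ∀ i, i < 540 → (fun i => lowOK D.T lN1 3 0 wES10 i) i = true :=
  allI_join hES10c1_u0 hES10c1_c1 rfl
theorem hES10c1 : ∀ i, i < 540 → (fun i => lowOK D.T lN1 3 0 wES10 i) i = true := hES10c1_u1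
theorem hES10c2_c0 : allI (fun i => lowOK D.T lN2 3 0 wES10 i) 0 362 = true := by decide +kernel
theorem hES10c2_u0 : ∀ i, i < 362 → (fun i => lowOK D.T lN2 3 0 wES10 i) i = true :=
  allI_join allI_start hES10c2_c0 rfl
theorem hES10c2_c1 : allI (fun i => lowOK D.T lN2 3 0 wES10 i) 362 178 = true := by decide +kernel
theorem hES10c2_u1 : ∀ i, i < 540 → (fun i => lowOK D.T lN2 3 0 wES10 i) i = true :=
  allI_join hES10c2_u0 hES10c2_c1 rfl
theorem hES10c2 : ∀ i, i < 540 → (fun i => lowOK D.T lN2 3 0 wES10 i) i = true := hES10c2_u1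
theorem hES11c0_c0 : allI (fun i => lowOK D.T lN0 4 0 wES11 i) 0 540 = true := by decide +kernel
theorem hES11c0_u0 : ∀ i, i < 540 → (fun i => lowOK D.T lN0 4 0 wES11 i) i = true :=
  allI_join allI_start hES11c0_c0 rfl
theorem hES11c0 : ∀ i, i < 540 → (fun i => lowOK D.T lN0 4 0 wES11 i) i = true := hES11c0_u0

end Cfsg.Agent.Lib.KnownSimple.U43Lab
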