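import Cfsg.Agent.Lib.KnownSimple.U43Lab.Data

set_option autoImplicit false
set_option maxRecDepth 100000

namespace Cfsg.Agent.Lib.KnownSimple.U43Lab

open Cfsg.Agent.Lib.KnownSimple.Lab Cfsg.Agent.Lib.KnownSimple.U43Lab Dat

theorem hES11c1_c0 : allI (fun i => lowOK D.T lN1 3 0 wES11 i) 0 540 = true := by decide +kernel
theorem hES11c1_u0 : ∀ i, i < 540 → (fun i => lowOK D.T lN1 3 0 wES11 i) i = true :=
  allI_join allI_start hES11c1_c0 rfl
theorem hES11c1 : ∀ i, i < 540 → (fun i => lowOK D.T lN1 3 0 wES11 i) i = true := hES11c1_u0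
theorem hES11c2_c0 : allI (fun i => lowOK D.T lN2 3 0 wES11 i) 0 540 = true := by decide +kernel
theorem hES11c2_u0 : ∀ i, i < 540 → (fun i => lowOK D.T lN2 3 0 wES11 i) i = true :=
  allI_join allI_start hES11c2_c0 rfl
theorem hES11c2 : ∀ i, i < 540 → (fun i => lowOK D.T lN2 3 0 wES11 i) i = true := hES11c2_u0
theorem hES12c0_c0 : allI (fun i => lowOK D.T lN0 4 2 wES12 i) 0 282 = true := by decide +kernel
theorem hES12c0_u0 : ∀ i, i < 282 → (fun i => lowOK D.T lN0 4 2 wES12 i) i = true :=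
  allI_join allI_start hES12c0_c0 rfl
theorem hES12c0_c1 : allI (fun i => lowOK D.T lN0 4 2 wES12 i) 282 258 = true := by decide +kernel
theorem hES12c0_u1 : ∀ i, i < 540 → (fun i => lowOK D.T lN0 4 2 wES12 i) i = true :=
  allI_join hES12c0_u0 hES12c0_c1 rfl
theorem hES12c0 : ∀ i, i < 540 → (fun i => lowOK D.T lN0 4 2 wES12 i) i = true := hES12c0_u1
theorem hES12c1_c0 : allI (fun i => lowOK D.T lN1 3 2 wES12 i) 0 282 = true := by decide +kernel
theorem hES12c1_u0 : ∀ i, i < 282 → (fun i => lowOK D.T lN1 3 2 wES12 i) i = true :=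
  allI_join allI_start hES12c1_c0 rfl
theorem hES12c1_c1 : allI (fun i => lowOK D.T lN1 3 2 wES12 i) 282 258 = true := by decide +kernel
theorem hES12c1_u1 : ∀ i, i < 540 → (fun i => lowOK D.T lN1 3 2 wES12 i) i = true :=
  allI_join hES12c1_u0 hES12c1_c1 rfl
theorem hES12c1 : ∀ i, i < 540 → (fun i => lowOK D.T lN1 3 2 wES12 i) i = true := hES12c1_u1
theorem hES12c2_c0 : allI (fun i => lowOK D.T lN2 3 2 wES12 i) 0 282 = true := by decide +kernel
theorem hES12c2_u0 : ∀ i, i < 282 → (fun i => lowOK D.T lN2 3 2 wES12 i) i = true :=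
  allI_join allI_start hES12c2_c0 rfl
theorem hES12c2_c1 : allI (fun i => lowOK D.T lN2 3 2 wES12 i) 282 258 = true := by decide +kernel
theorem hES12c2_u1 : ∀ i, i < 540 → (fun i => lowOK D.T lN2 3 2 wES12 i) i = true :=
  allI_join hES12c2_u0 hES12c2_c1 rfl
theorem hES12c2 : ∀ i, i < 540 → (fun i => lowOK D.T lN2 3 2 wES12 i) i = true := hES12c2_u1
theorem hES13c0_c0 : allI (fun i => lowOK D.T lN0 4 2 wES13 i) 0 376 = true := by decide +kernel
theorem hES13c0_u0 : ∀ i, i < 376 → (fun i => lowOK D.T lN0 4 2 wES13 i) i = true :=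
  allI_join allI_start hES13c0_c0 rfl
theorem hES13c0_c1 : allI (fun i => lowOK D.T lN0 4 2 wES13 i) 376 164 = true := by decide +kernel
theorem hES13c0_u1 : ∀ i, i < 540 → (fun i => lowOK D.T lN0 4 2 wES13 i) i = true :=
  allI_join hES13c0_u0 hES13c0_c1 rfl
theorem hES13c0 : ∀ i, i < 540 → (fun i => lowOK D.T lN0 4 2 wES13 i) i = true := hES13c0_u1
theorem hES13c1_c0 : allI (fun i => lowOK D.T lN1 3 2 wES13 i) 0 376 = true := by decide +kernel
theorem hES13c1_u0 : ∀ i, i < 376 → (fun i => lowOK D.T lN1 3 2 wES13 i) i = true :=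
  allI_join allI_start hES13c1_c0 rfl
theorem hES13c1_c1 : allI (fun i => lowOK D.T lN1 3 2 wES13 i) 376 164 = true := by decide +kernel
theorem hES13c1_u1 : ∀ i, i < 540 → (fun i => lowOK D.T lN1 3 2 wES13 i) i = true :=
  allI_join hES13c1_u0 hES13c1_c1 rfl
theorem hES13c1 : ∀ i, i < 540 → (fun i => lowOK D.T lN1 3 2 wES13 i) i = true := hES13c1_u1

end Cfsg.Agent.Lib.KnownSimple.U43Lab
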