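import Cfsg.Agent.Lib.KnownSimple.U43Lab.Data

set_option autoImplicit false
set_option maxRecDepth 100000

namespace Cfsg.Agent.Lib.KnownSimple.U43Lab

open Cfsg.Agent.Lib.KnownSimple.Lab Cfsg.Agent.Lib.KnownSimple.U43Lab Dat

theorem hES13c2_c0 : allI (fun i => lowOK D.T lN2 3 2 wES13 i) 0 376 = true := by decide +kernel
theorem hES13c2_u0 : ∀ i, i < 376 → (fun i => lowOK D.T lN2 3 2 wES13 i) i = true :=
  allI_join allI_start hES13c2_c0 rfl
theorem hES13c2_c1 : allI (fun i => lowOK D.T lN2 3 2 wES13 i) 376 164 = true := by decide +kernel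
theorem hES13c2_u1 : ∀ i, i < 540 → (fun i => lowOK D.T lN2 3 2 wES13 i) i = true :=
  allI_join hES13c2_u0 hES13c2_c1 rfl
theorem hES13c2 : ∀ i, i < 540 → (fun i => lowOK D.T lN2 3 2 wES13 i) i = true := hES13c2_u1
theorem hES14c0_c0 : allI (fun i => lowOK D.T lN0 4 3 wES14 i) 0 540 = true := by decide +kernel
theorem hES14c0_u0 : ∀ i, i < 540 → (fun i => lowOK D.T lN0 4 3 wES14 i) i = true :=
  allI_join allI_start hES14c0_c0 rfl
theorem hES14c0 : ∀ i, i < 540 → (fun i => lowOK D.T lN0 4 3 wES14 i) i = true := hES14c0_u0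
theorem hES14c1_c0 : allI (fun i => lowOK D.T lN1 3 2 wES14 i) 0 540 = true := by decide +kernel
theorem hES14c1_u0 : ∀ i, i < 540 → (fun i => lowOK D.T lN1 3 2 wES14 i) i = true :=
  allI_join allI_start hES14c1_c0 rfl
theorem hES14c1 : ∀ i, i < 540 → (fun i => lowOK D.T lN1 3 2 wES14 i) i = true := hES14c1_u0
theorem hES14c2_c0 : allI (fun i => lowOK D.T lN2 3 0 wES14 i) 0 540 = true := by decide +kernel
theorem hES14c2_u0 : ∀ i, i < 540 → (fun i => lowOK D.T lN2 3 0 wES14 i) i = true :=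
  allI_join allI_start hES14c2_c0 rfl
theorem hES14c2 : ∀ i, i < 540 → (fun i => lowOK D.T lN2 3 0 wES14 i) i = true := hES14c2_u0
theorem hES15c0_c0 : allI (fun i => lowOK D.T lN0 4 1 wES15 i) 0 540 = true := by decide +kernel
theorem hES15c0_u0 : ∀ i, i < 540 → (fun i => lowOK D.T lN0 4 1 wES15 i) i = true :=
  allI_join allI_start hES15c0_c0 rfl
theorem hES15c0 : ∀ i, i < 540 → (fun i => lowOK D.T lN0 4 1 wES15 i) i = true := hES15c0_u0
theorem hES15c1_c0 : allI (fun i => lowOK D.T lN1 3 2 wES15 i) 0 540 = true := by decide +kernel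
theorem hES15c1_u0 : ∀ i, i < 540 → (fun i => lowOK D.T lN1 3 2 wES15 i) i = true :=
  allI_join allI_start hES15c1_c0 rfl
theorem hES15c1 : ∀ i, i < 540 → (fun i => lowOK D.T lN1 3 2 wES15 i) i = true := hES15c1_u0
theorem hES15c2_c0 : allI (fun i => lowOK D.T lN2 3 0 wES15 i) 0 540 = true := by decide +kernel
theorem hES15c2_u0 : ∀ i, i < 540 → (fun i => lowOK D.T lN2 3 0 wES15 i) i = true :=
  allI_join allI_start hES15c2_c0 rfl
theorem hES15c2 : ∀ i, i < 540 → (fun i => lowOK D.T lN2 3 0 wES15 i) i = true := hES15c2_u0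
theorem hES16c0_c0 : allI (fun i => lowOK D.T lN0 4 2 wES16 i) 0 356 = true := by decide +kernel
theorem hES16c0_u0 : ∀ i, i < 356 → (fun i => lowOK D.T lN0 4 2 wES16 i) i = true :=
  allI_join allI_start hES16c0_c0 rfl
theorem hES16c0_c1 : allI (fun i => lowOK D.T lN0 4 2 wES16 i) 356 184 = true := by decide +kernel
theorem hES16c0_u1 : ∀ i, i < 540 → (fun i => lowOK D.T lN0 4 2 wES16 i) i = true :=
  allI_join hES16c0_u0 hES16c0_c1 rfl
theorem hES16c0 : ∀ i, i < 540 → (fun i => lowOK D.T lN0 4 2 wES16 i) i = true := hES16c0_u1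
theorem hES16c1_c0 : allI (fun i => lowOK D.T lN1 3 2 wES16 i) 0 356 = true := by decide +kernel
theorem hES16c1_u0 : ∀ i, i < 356 → (fun i => lowOK D.T lN1 3 2 wES16 i) i = true :=
  allI_join allI_start hES16c1_c0 rfl
theorem hES16c1_c1 : allI (fun i => lowOK D.T lN1 3 2 wES16 i) 356 184 = true := by decide +kernel
theorem hES16c1_u1 : ∀ i, i < 540 → (fun i => lowOK D.T lN1 3 2 wES16 i) i = true :=
  allI_join hES16c1_u0 hES16c1_c1 rfl
theorem hES16c1 : ∀ i, i < 540 → (fun i => lowOK D.T lN1 3 2 wES16 i) i = true := hES16c1_u1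
theorem hES16c2_c0 : allI (fun i => lowOK D.T lN2 3 1 wES16 i) 0 356 = true := by decide +kernel
theorem hES16c2_u0 : ∀ i, i < 356 → (fun i => lowOK D.T lN2 3 1 wES16 i) i = true :=
  allI_join allI_start hES16c2_c0 rfl
theorem hES16c2_c1 : allI (fun i => lowOK D.T lN2 3 1 wES16 i) 356 184 = true := by decide +kernel
theorem hES16c2_u1 : ∀ i, i < 540 → (fun i => lowOK D.T lN2 3 1 wES16 i) i = true :=
  allI_join hES16c2_u0 hES16c2_c1 rfl
theorem hES16c2 : ∀ i, i < 540 → (fun i => lowOK D.T lN2 3 1 wES16 i) i = true := hES16c2_u1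

end Cfsg.Agent.Lib.KnownSimple.U43Lab
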