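import Cfsg.Agent.Lib.KnownSimple.U43Lab.Data

set_option autoImplicit false
set_option maxRecDepth 100000

namespace Cfsg.Agent.Lib.KnownSimple.U43Lab

open Cfsg.Agent.Lib.KnownSimple.Lab Cfsg.Agent.Lib.KnownSimple.U43Lab Dat

theorem hES17c0_c0 : allI (fun i => lowOK D.T lN0 4 0 wES17 i) 0 402 = true := by decide +kernel
theorem hES17c0_u0 : ∀ i, i < 402 → (fun i => lowOK D.T lN0 4 0 wES17 i) i = true :=
  allI_join allI_start hES17c0_c0 rfl
theorem hES17c0_c1 : allI (fun i => lowOK D.T lN0 4 0 wES17 i) 402 138 = true := by decide +kernel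
theorem hES17c0_u1 : ∀ i, i < 540 → (fun i => lowOK D.T lN0 4 0 wES17 i) i = true :=
  allI_join hES17c0_u0 hES17c0_c1 rfl
theorem hES17c0 : ∀ i, i < 540 → (fun i => lowOK D.T lN0 4 0 wES17 i) i = true := hES17c0_u1
theorem hES17c1_c0 : allI (fun i => lowOK D.T lN1 3 0 wES17 i) 0 402 = true := by decide +kernel
theorem hES17c1_u0 : ∀ i, i < 402 → (fun i => lowOK D.T lN1 3 0 wES17 i) i = true :=
  allI_join allI_start hES17c1_c0 rfl
theorem hES17c1_c1 : allI (fun i => lowOK D.T lN1 3 0 wES17 i) 402 138 = true := by decide +kernel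
theorem hES17c1_u1 : ∀ i, i < 540 → (fun i => lowOK D.T lN1 3 0 wES17 i) i = true :=
  allI_join hES17c1_u0 hES17c1_c1 rfl
theorem hES17c1 : ∀ i, i < 540 → (fun i => lowOK D.T lN1 3 0 wES17 i) i = true := hES17c1_u1
theorem hES17c2_c0 : allI (fun i => lowOK D.T lN2 3 1 wES17 i) 0 402 = true := by decide +kernel
theorem hES17c2_u0 : ∀ i, i < 402 → (fun i => lowOK D.T lN2 3 1 wES17 i) i = true :=
  allI_join allI_start hES17c2_c0 rfl
theorem hES17c2_c1 : allI (fun i => lowOK D.T lN2 3 1 wES17 i) 402 138 = true := by decide +kernel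
theorem hES17c2_u1 : ∀ i, i < 540 → (fun i => lowOK D.T lN2 3 1 wES17 i) i = true :=
  allI_join hES17c2_u0 hES17c2_c1 rfl
theorem hES17c2 : ∀ i, i < 540 → (fun i => lowOK D.T lN2 3 1 wES17 i) i = true := hES17c2_u1
theorem hES18c0_c0 : allI (fun i => lowOK D.T lN0 4 0 wES18 i) 0 540 = true := by decide +kernel
theorem hES18c0_u0 : ∀ i, i < 540 → (fun i => lowOK D.T lN0 4 0 wES18 i) i = true :=
  allI_join allI_start hES18c0_c0 rfl
theorem hES18c0 : ∀ i, i < 540 → (fun i => lowOK D.T lN0 4 0 wES18 i) i = true := hES18c0_u0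
theorem hES18c1_c0 : allI (fun i => lowOK D.T lN1 3 0 wES18 i) 0 540 = true := by decide +kernel
theorem hES18c1_u0 : ∀ i, i < 540 → (fun i => lowOK D.T lN1 3 0 wES18 i) i = true :=
  allI_join allI_start hES18c1_c0 rfl
theorem hES18c1 : ∀ i, i < 540 → (fun i => lowOK D.T lN1 3 0 wES18 i) i = true := hES18c1_u0
theorem hES18c2_c0 : allI (fun i => lowOK D.T lN2 3 2 wES18 i) 0 540 = true := by decide +kernel
theorem hES18c2_u0 : ∀ i, i < 540 → (fun i => lowOK D.T lN2 3 2 wES18 i) i = true :=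
  allI_join allI_start hES18c2_c0 rfl
theorem hES18c2 : ∀ i, i < 540 → (fun i => lowOK D.T lN2 3 2 wES18 i) i = true := hES18c2_u0
theorem hES19c0_c0 : allI (fun i => lowOK D.T lN0 4 0 wES19 i) 0 540 = true := by decide +kernel
theorem hES19c0_u0 : ∀ i, i < 540 → (fun i => lowOK D.T lN0 4 0 wES19 i) i = true :=
  allI_join allI_start hES19c0_c0 rfl
theorem hES19c0 : ∀ i, i < 540 → (fun i => lowOK D.T lN0 4 0 wES19 i) i = true := hES19c0_u0
theorem hES19c1_c0 : allI (fun i => lowOK D.T lN1 3 0 wES19 i) 0 540 = true := by decide +kernel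
theorem hES19c1_u0 : ∀ i, i < 540 → (fun i => lowOK D.T lN1 3 0 wES19 i) i = true :=
  allI_join allI_start hES19c1_c0 rfl
theorem hES19c1 : ∀ i, i < 540 → (fun i => lowOK D.T lN1 3 0 wES19 i) i = true := hES19c1_u0
theorem hES19c2_c0 : allI (fun i => lowOK D.T lN2 3 0 wES19 i) 0 540 = true := by decide +kernel
theorem hES19c2_u0 : ∀ i, i < 540 → (fun i => lowOK D.T lN2 3 0 wES19 i) i = true :=
  allI_join allI_start hES19c2_c0 rfl
theorem hES19c2 : ∀ i, i < 540 → (fun i => lowOK D.T lN2 3 0 wES19 i) i = true := hES19c2_u0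
theorem hES20c0_c0 : allI (fun i => lowOK D.T lN0 4 0 wES20 i) 0 540 = true := by decide +kernel
theorem hES20c0_u0 : ∀ i, i < 540 → (fun i => lowOK D.T lN0 4 0 wES20 i) i = true :=
  allI_join allI_start hES20c0_c0 rfl
theorem hES20c0 : ∀ i, i < 540 → (fun i => lowOK D.T lN0 4 0 wES20 i) i = true := hES20c0_u0
theorem hES20c1_c0 : allI (fun i => lowOK D.T lN1 3 1 wES20 i) 0 540 = true := by decide +kernel
theorem hES20c1_u0 : ∀ i, i < 540 → (fun i => lowOK D.T lN1 3 1 wES20 i) i = true :=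
  allI_join allI_start hES20c1_c0 rfl
theorem hES20c1 : ∀ i, i < 540 → (fun i => lowOK D.T lN1 3 1 wES20 i) i = true := hES20c1_u0
theorem hES20c2_c0 : allI (fun i => lowOK D.T lN2 3 2 wES20 i) 0 540 = true := by decide +kernel
theorem hES20c2_u0 : ∀ i, i < 540 → (fun i => lowOK D.T lN2 3 2 wES20 i) i = true :=
  allI_join allI_start hES20c2_c0 rfl
theorem hES20c2 : ∀ i, i < 540 → (fun i => lowOK D.T lN2 3 2 wES20 i) i = true := hES20c2_u0
theorem hES21c0_c0 : allI (fun i => lowOK D.T lN0 4 3 wES21 i) 0 424 = true := by decide +kernel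
theorem hES21c0_u0 : ∀ i, i < 424 → (fun i => lowOK D.T lN0 4 3 wES21 i) i = true :=
  allI_join allI_start hES21c0_c0 rfl
theorem hES21c0_c1 : allI (fun i => lowOK D.T lN0 4 3 wES21 i) 424 116 = true := by decide +kernel
theorem hES21c0_u1 : ∀ i, i < 540 → (fun i => lowOK D.T lN0 4 3 wES21 i) i = true :=
  allI_join hES21c0_u0 hES21c0_c1 rfl
theorem hES21c0 : ∀ i, i < 540 → (fun i => lowOK D.T lN0 4 3 wES21 i) i = true := hES21c0_u1

end Cfsg.Agent.Lib.KnownSimple.U43Lab
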