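import Cfsg.Agent.Lib.KnownSimple.U43Lab.Data

set_option autoImplicit false
set_option maxRecDepth 100000

namespace Cfsg.Agent.Lib.KnownSimple.U43Lab

open Cfsg.Agent.Lib.KnownSimple.Lab Cfsg.Agent.Lib.KnownSimple.U43Lab Dat

theorem hES21c1_c0 : allI (fun i => lowOK D.T lN1 3 2 wES21 i) 0 424 = true := by decide +kernel
theorem hES21c1_u0 : ∀ i, i < 424 → (fun i => lowOK D.T lN1 3 2 wES21 i) i = true :=
  allI_join allI_start hES21c1_c0 rfl
theorem hES21c1_c1 : allI (fun i => lowOK D.T lN1 3 2 wES21 i) 424 116 = true := by decide +kernel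
theorem hES21c1_u1 : ∀ i, i < 540 → (fun i => lowOK D.T lN1 3 2 wES21 i) i = true :=
  allI_join hES21c1_u0 hES21c1_c1 rfl
theorem hES21c1 : ∀ i, i < 540 → (fun i => lowOK D.T lN1 3 2 wES21 i) i = true := hES21c1_u1
theorem hES21c2_c0 : allI (fun i => lowOK D.T lN2 3 2 wES21 i) 0 424 = true := by decide +kernel
theorem hES21c2_u0 : ∀ i, i < 424 → (fun i => lowOK D.T lN2 3 2 wES21 i) i = true :=
  allI_join allI_start hES21c2_c0 rfl
theorem hES21c2_c1 : allI (fun i => lowOK D.T lN2 3 2 wES21 i) 424 116 = true := by decide +kernel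
theorem hES21c2_u1 : ∀ i, i < 540 → (fun i => lowOK D.T lN2 3 2 wES21 i) i = true :=
  allI_join hES21c2_u0 hES21c2_c1 rfl
theorem hES21c2 : ∀ i, i < 540 → (fun i => lowOK D.T lN2 3 2 wES21 i) i = true := hES21c2_u1
theorem hES22c0_c0 : allI (fun i => lowOK D.T lN0 4 0 wES22 i) 0 540 = true := by decide +kernel
theorem hES22c0_u0 : ∀ i, i < 540 → (fun i => lowOK D.T lN0 4 0 wES22 i) i = true :=
  allI_join allI_start hES22c0_c0 rfl
theorem hES22c0 : ∀ i, i < 540 → (fun i => lowOK D.T lN0 4 0 wES22 i) i = true := hES22c0_u0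
theorem hES22c1_c0 : allI (fun i => lowOK D.T lN1 3 0 wES22 i) 0 540 = true := by decide +kernel
theorem hES22c1_u0 : ∀ i, i < 540 → (fun i => lowOK D.T lN1 3 0 wES22 i) i = true :=
  allI_join allI_start hES22c1_c0 rfl
theorem hES22c1 : ∀ i, i < 540 → (fun i => lowOK D.T lN1 3 0 wES22 i) i = true := hES22c1_u0
theorem hES22c2_c0 : allI (fun i => lowOK D.T lN2 3 0 wES22 i) 0 540 = true := by decide +kernel
theorem hES22c2_u0 : ∀ i, i < 540 → (fun i => lowOK D.T lN2 3 0 wES22 i) i = true :=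
  allI_join allI_start hES22c2_c0 rfl
theorem hES22c2 : ∀ i, i < 540 → (fun i => lowOK D.T lN2 3 0 wES22 i) i = true := hES22c2_u0
theorem hES23c0_c0 : allI (fun i => lowOK D.T lN0 4 0 wES23 i) 0 540 = true := by decide +kernel
theorem hES23c0_u0 : ∀ i, i < 540 → (fun i => lowOK D.T lN0 4 0 wES23 i) i = true :=
  allI_join allI_start hES23c0_c0 rfl
theorem hES23c0 : ∀ i, i < 540 → (fun i => lowOK D.T lN0 4 0 wES23 i) i = true := hES23c0_u0
theorem hES23c1_c0 : allI (fun i => lowOK D.T lN1 3 0 wES23 i) 0 540 = true := by decide +kernel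
theorem hES23c1_u0 : ∀ i, i < 540 → (fun i => lowOK D.T lN1 3 0 wES23 i) i = true :=
  allI_join allI_start hES23c1_c0 rfl
theorem hES23c1 : ∀ i, i < 540 → (fun i => lowOK D.T lN1 3 0 wES23 i) i = true := hES23c1_u0
theorem hES23c2_c0 : allI (fun i => lowOK D.T lN2 3 0 wES23 i) 0 540 = true := by decide +kernel
theorem hES23c2_u0 : ∀ i, i < 540 → (fun i => lowOK D.T lN2 3 0 wES23 i) i = true :=
  allI_join allI_start hES23c2_c0 rfl
theorem hES23c2 : ∀ i, i < 540 → (fun i => lowOK D.T lN2 3 0 wES23 i) i = true := hES23c2_u0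
theorem hES24c0_c0 : allI (fun i => lowOK D.T lN0 4 1 wES24 i) 0 540 = true := by decide +kernel
theorem hES24c0_u0 : ∀ i, i < 540 → (fun i => lowOK D.T lN0 4 1 wES24 i) i = true :=
  allI_join allI_start hES24c0_c0 rfl
theorem hES24c0 : ∀ i, i < 540 → (fun i => lowOK D.T lN0 4 1 wES24 i) i = true := hES24c0_u0
theorem hES24c1_c0 : allI (fun i => lowOK D.T lN1 3 0 wES24 i) 0 540 = true := by decide +kernel
theorem hES24c1_u0 : ∀ i, i < 540 → (fun i => lowOK D.T lN1 3 0 wES24 i) i = true :=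
  allI_join allI_start hES24c1_c0 rfl
theorem hES24c1 : ∀ i, i < 540 → (fun i => lowOK D.T lN1 3 0 wES24 i) i = true := hES24c1_u0
theorem hES24c2_c0 : allI (fun i => lowOK D.T lN2 3 0 wES24 i) 0 540 = true := by decide +kernel
theorem hES24c2_u0 : ∀ i, i < 540 → (fun i => lowOK D.T lN2 3 0 wES24 i) i = true :=
  allI_join allI_start hES24c2_c0 rfl
theorem hES24c2 : ∀ i, i < 540 → (fun i => lowOK D.T lN2 3 0 wES24 i) i = true := hES24c2_u0
theorem hES25c0_c0 : allI (fun i => lowOK D.T lN0 4 3 wES25 i) 0 433 = true := by decide +kernel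
theorem hES25c0_u0 : ∀ i, i < 433 → (fun i => lowOK D.T lN0 4 3 wES25 i) i = true :=
  allI_join allI_start hES25c0_c0 rfl
theorem hES25c0_c1 : allI (fun i => lowOK D.T lN0 4 3 wES25 i) 433 107 = true := by decide +kernel
theorem hES25c0_u1 : ∀ i, i < 540 → (fun i => lowOK D.T lN0 4 3 wES25 i) i = true :=
  allI_join hES25c0_u0 hES25c0_c1 rfl
theorem hES25c0 : ∀ i, i < 540 → (fun i => lowOK D.T lN0 4 3 wES25 i) i = true := hES25c0_u1

end Cfsg.Agent.Lib.KnownSimple.U43Lab
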