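import Cfsg.Agent.Lib.KnownSimple.U43Lab.Data

set_option autoImplicit false
set_option maxRecDepth 100000

namespace Cfsg.Agent.Lib.KnownSimple.U43Lab

open Cfsg.Agent.Lib.KnownSimple.Lab Cfsg.Agent.Lib.KnownSimple.U43Lab Dat

theorem hES25c1_c0 : allI (fun i => lowOK D.T lN1 3 2 wES25 i) 0 433 = true := by decide +kernel
theorem hES25c1_u0 : ∀ i, i < 433 → (fun i => lowOK D.T lN1 3 2 wES25 i) i = true :=
  allI_join allI_start hES25c1_c0 rfl
theorem hES25c1_c1 : allI (fun i => lowOK D.T lN1 3 2 wES25 i) 433 107 = true := by decide +kernel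
theorem hES25c1_u1 : ∀ i, i < 540 → (fun i => lowOK D.T lN1 3 2 wES25 i) i = true :=
  allI_join hES25c1_u0 hES25c1_c1 rfl
theorem hES25c1 : ∀ i, i < 540 → (fun i => lowOK D.T lN1 3 2 wES25 i) i = true := hES25c1_u1
theorem hES25c2_c0 : allI (fun i => lowOK D.T lN2 3 0 wES25 i) 0 433 = true := by decide +kernel
theorem hES25c2_u0 : ∀ i, i < 433 → (fun i => lowOK D.T lN2 3 0 wES25 i) i = true :=
  allI_join allI_start hES25c2_c0 rfl
theorem hES25c2_c1 : allI (fun i => lowOK D.T lN2 3 0 wES25 i) 433 107 = true := by decide +kernel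
theorem hES25c2_u1 : ∀ i, i < 540 → (fun i => lowOK D.T lN2 3 0 wES25 i) i = true :=
  allI_join hES25c2_u0 hES25c2_c1 rfl
theorem hES25c2 : ∀ i, i < 540 → (fun i => lowOK D.T lN2 3 0 wES25 i) i = true := hES25c2_u1
theorem hES26c0_c0 : allI (fun i => lowOK D.T lN0 4 0 wES26 i) 0 540 = true := by decide +kernel
theorem hES26c0_u0 : ∀ i, i < 540 → (fun i => lowOK D.T lN0 4 0 wES26 i) i = true :=
  allI_join allI_start hES26c0_c0 rfl
theorem hES26c0 : ∀ i, i < 540 → (fun i => lowOK D.T lN0 4 0 wES26 i) i = true := hES26c0_u0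
theorem hES26c1_c0 : allI (fun i => lowOK D.T lN1 3 0 wES26 i) 0 540 = true := by decide +kernel
theorem hES26c1_u0 : ∀ i, i < 540 → (fun i => lowOK D.T lN1 3 0 wES26 i) i = true :=
  allI_join allI_start hES26c1_c0 rfl
theorem hES26c1 : ∀ i, i < 540 → (fun i => lowOK D.T lN1 3 0 wES26 i) i = true := hES26c1_u0
theorem hES26c2_c0 : allI (fun i => lowOK D.T lN2 3 0 wES26 i) 0 540 = true := by decide +kernel
theorem hES26c2_u0 : ∀ i, i < 540 → (fun i => lowOK D.T lN2 3 0 wES26 i) i = true :=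
  allI_join allI_start hES26c2_c0 rfl
theorem hES26c2 : ∀ i, i < 540 → (fun i => lowOK D.T lN2 3 0 wES26 i) i = true := hES26c2_u0
theorem hES27c0_c0 : allI (fun i => lowOK D.T lN0 4 1 wES27 i) 0 540 = true := by decide +kernel
theorem hES27c0_u0 : ∀ i, i < 540 → (fun i => lowOK D.T lN0 4 1 wES27 i) i = true :=
  allI_join allI_start hES27c0_c0 rfl
theorem hES27c0 : ∀ i, i < 540 → (fun i => lowOK D.T lN0 4 1 wES27 i) i = true := hES27c0_u0
theorem hES27c1_c0 : allI (fun i => lowOK D.T lN1 3 0 wES27 i) 0 540 = true := by decide +kernel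
theorem hES27c1_u0 : ∀ i, i < 540 → (fun i => lowOK D.T lN1 3 0 wES27 i) i = true :=
  allI_join allI_start hES27c1_c0 rfl
theorem hES27c1 : ∀ i, i < 540 → (fun i => lowOK D.T lN1 3 0 wES27 i) i = true := hES27c1_u0
theorem hES27c2_c0 : allI (fun i => lowOK D.T lN2 3 0 wES27 i) 0 540 = true := by decide +kernel
theorem hES27c2_u0 : ∀ i, i < 540 → (fun i => lowOK D.T lN2 3 0 wES27 i) i = true :=
  allI_join allI_start hES27c2_c0 rfl
theorem hES27c2 : ∀ i, i < 540 → (fun i => lowOK D.T lN2 3 0 wES27 i) i = true := hES27c2_u0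
theorem hES28c0_c0 : allI (fun i => lowOK D.T lN0 4 0 wES28 i) 0 540 = true := by decide +kernel
theorem hES28c0_u0 : ∀ i, i < 540 → (fun i => lowOK D.T lN0 4 0 wES28 i) i = true :=
  allI_join allI_start hES28c0_c0 rfl
theorem hES28c0 : ∀ i, i < 540 → (fun i => lowOK D.T lN0 4 0 wES28 i) i = true := hES28c0_u0
theorem hES28c1_c0 : allI (fun i => lowOK D.T lN1 3 0 wES28 i) 0 540 = true := by decide +kernel
theorem hES28c1_u0 : ∀ i, i < 540 → (fun i => lowOK D.T lN1 3 0 wES28 i) i = true :=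
  allI_join allI_start hES28c1_c0 rfl
theorem hES28c1 : ∀ i, i < 540 → (fun i => lowOK D.T lN1 3 0 wES28 i) i = true := hES28c1_u0
theorem hES28c2_c0 : allI (fun i => lowOK D.T lN2 3 0 wES28 i) 0 540 = true := by decide +kernel
theorem hES28c2_u0 : ∀ i, i < 540 → (fun i => lowOK D.T lN2 3 0 wES28 i) i = true :=
  allI_join allI_start hES28c2_c0 rfl
theorem hES28c2 : ∀ i, i < 540 → (fun i => lowOK D.T lN2 3 0 wES28 i) i = true := hES28c2_u0
theorem hES29c0_c0 : allI (fun i => lowOK D.T lN0 4 3 wES29 i) 0 540 = true := by decide +kernel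
theorem hES29c0_u0 : ∀ i, i < 540 → (fun i => lowOK D.T lN0 4 3 wES29 i) i = true :=
  allI_join allI_start hES29c0_c0 rfl
theorem hES29c0 : ∀ i, i < 540 → (fun i => lowOK D.T lN0 4 3 wES29 i) i = true := hES29c0_u0
theorem hES29c1_c0 : allI (fun i => lowOK D.T lN1 3 0 wES29 i) 0 540 = true := by decide +kernel
theorem hES29c1_u0 : ∀ i, i < 540 → (fun i => lowOK D.T lN1 3 0 wES29 i) i = true :=
  allI_join allI_start hES29c1_c0 rfl
theorem hES29c1 : ∀ i, i < 540 → (fun i => lowOK D.T lN1 3 0 wES29 i) i = true := hES29c1_u0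

end Cfsg.Agent.Lib.KnownSimple.U43Lab
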