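import Cfsg.Agent.Lib.KnownSimple.U43Lab.Data

set_option autoImplicit false
set_option maxRecDepth 100000

namespace Cfsg.Agent.Lib.KnownSimple.U43Lab

open Cfsg.Agent.Lib.KnownSimple.Lab Cfsg.Agent.Lib.KnownSimple.U43Lab Dat

theorem hES29c2_c0 : allI (fun i => lowOK D.T lN2 3 0 wES29 i) 0 540 = true := by decide +kernel
theorem hES29c2_u0 : ∀ i, i < 540 → (fun i => lowOK D.T lN2 3 0 wES29 i) i = true :=
  allI_join allI_start hES29c2_c0 rfl
theorem hES29c2 : ∀ i, i < 540 → (fun i => lowOK D.T lN2 3 0 wES29 i) i = true := hES29c2_u0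
theorem hES30c0_c0 : allI (fun i => lowOK D.T lN0 4 0 wES30 i) 0 540 = true := by decide +kernel
theorem hES30c0_u0 : ∀ i, i < 540 → (fun i => lowOK D.T lN0 4 0 wES30 i) i = true :=
  allI_join allI_start hES30c0_c0 rfl
theorem hES30c0 : ∀ i, i < 540 → (fun i => lowOK D.T lN0 4 0 wES30 i) i = true := hES30c0_u0
theorem hES30c1_c0 : allI (fun i => lowOK D.T lN1 3 0 wES30 i) 0 540 = true := by decide +kernel
theorem hES30c1_u0 : ∀ i, i < 540 → (fun i => lowOK D.T lN1 3 0 wES30 i) i = true :=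
  allI_join allI_start hES30c1_c0 rfl
theorem hES30c1 : ∀ i, i < 540 → (fun i => lowOK D.T lN1 3 0 wES30 i) i = true := hES30c1_u0
theorem hES30c2_c0 : allI (fun i => lowOK D.T lN2 3 0 wES30 i) 0 540 = true := by decide +kernel
theorem hES30c2_u0 : ∀ i, i < 540 → (fun i => lowOK D.T lN2 3 0 wES30 i) i = true :=
  allI_join allI_start hES30c2_c0 rfl
theorem hES30c2 : ∀ i, i < 540 → (fun i => lowOK D.T lN2 3 0 wES30 i) i = true := hES30c2_u0
theorem hES31c0_c0 : allI (fun i => lowOK D.T lN0 4 2 wES31 i) 0 431 = true := by decide +kernel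
theorem hES31c0_u0 : ∀ i, i < 431 → (fun i => lowOK D.T lN0 4 2 wES31 i) i = true :=
  allI_join allI_start hES31c0_c0 rfl
theorem hES31c0_c1 : allI (fun i => lowOK D.T lN0 4 2 wES31 i) 431 109 = true := by decide +kernel
theorem hES31c0_u1 : ∀ i, i < 540 → (fun i => lowOK D.T lN0 4 2 wES31 i) i = true :=
  allI_join hES31c0_u0 hES31c0_c1 rfl
theorem hES31c0 : ∀ i, i < 540 → (fun i => lowOK D.T lN0 4 2 wES31 i) i = true := hES31c0_u1
theorem hES31c1_c0 : allI (fun i => lowOK D.T lN1 3 1 wES31 i) 0 431 = true := by decide +kernel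
theorem hES31c1_u0 : ∀ i, i < 431 → (fun i => lowOK D.T lN1 3 1 wES31 i) i = true :=
  allI_join allI_start hES31c1_c0 rfl
theorem hES31c1_c1 : allI (fun i => lowOK D.T lN1 3 1 wES31 i) 431 109 = true := by decide +kernel
theorem hES31c1_u1 : ∀ i, i < 540 → (fun i => lowOK D.T lN1 3 1 wES31 i) i = true :=
  allI_join hES31c1_u0 hES31c1_c1 rfl
theorem hES31c1 : ∀ i, i < 540 → (fun i => lowOK D.T lN1 3 1 wES31 i) i = true := hES31c1_u1
theorem hES31c2_c0 : allI (fun i => lowOK D.T lN2 3 1 wES31 i) 0 431 = true := by decide +kernel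
theorem hES31c2_u0 : ∀ i, i < 431 → (fun i => lowOK D.T lN2 3 1 wES31 i) i = true :=
  allI_join allI_start hES31c2_c0 rfl
theorem hES31c2_c1 : allI (fun i => lowOK D.T lN2 3 1 wES31 i) 431 109 = true := by decide +kernel
theorem hES31c2_u1 : ∀ i, i < 540 → (fun i => lowOK D.T lN2 3 1 wES31 i) i = true :=
  allI_join hES31c2_u0 hES31c2_c1 rfl
theorem hES31c2 : ∀ i, i < 540 → (fun i => lowOK D.T lN2 3 1 wES31 i) i = true := hES31c2_u1
theorem hES32c0_c0 : allI (fun i => lowOK D.T lN0 4 3 wES32 i) 0 540 = true := by decide +kernel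
theorem hES32c0_u0 : ∀ i, i < 540 → (fun i => lowOK D.T lN0 4 3 wES32 i) i = true :=
  allI_join allI_start hES32c0_c0 rfl
theorem hES32c0 : ∀ i, i < 540 → (fun i => lowOK D.T lN0 4 3 wES32 i) i = true := hES32c0_u0
theorem hES32c1_c0 : allI (fun i => lowOK D.T lN1 3 2 wES32 i) 0 540 = true := by decide +kernel
theorem hES32c1_u0 : ∀ i, i < 540 → (fun i => lowOK D.T lN1 3 2 wES32 i) i = true :=
  allI_join allI_start hES32c1_c0 rfl
theorem hES32c1 : ∀ i, i < 540 → (fun i => lowOK D.T lN1 3 2 wES32 i) i = true := hES32c1_u0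
theorem hES32c2_c0 : allI (fun i => lowOK D.T lN2 3 1 wES32 i) 0 540 = true := by decide +kernel
theorem hES32c2_u0 : ∀ i, i < 540 → (fun i => lowOK D.T lN2 3 1 wES32 i) i = true :=
  allI_join allI_start hES32c2_c0 rfl
theorem hES32c2 : ∀ i, i < 540 → (fun i => lowOK D.T lN2 3 1 wES32 i) i = true := hES32c2_u0
theorem hES33c0_c0 : allI (fun i => lowOK D.T lN0 4 1 wES33 i) 0 540 = true := by decide +kernel
theorem hES33c0_u0 : ∀ i, i < 540 → (fun i => lowOK D.T lN0 4 1 wES33 i) i = true :=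
  allI_join allI_start hES33c0_c0 rfl
theorem hES33c0 : ∀ i, i < 540 → (fun i => lowOK D.T lN0 4 1 wES33 i) i = true := hES33c0_u0
theorem hES33c1_c0 : allI (fun i => lowOK D.T lN1 3 0 wES33 i) 0 540 = true := by decide +kernel
theorem hES33c1_u0 : ∀ i, i < 540 → (fun i => lowOK D.T lN1 3 0 wES33 i) i = true :=
  allI_join allI_start hES33c1_c0 rfl
theorem hES33c1 : ∀ i, i < 540 → (fun i => lowOK D.T lN1 3 0 wES33 i) i = true := hES33c1_u0
theorem hES33c2_c0 : allI (fun i => lowOK D.T lN2 3 0 wES33 i) 0 540 = true := by decide +kernel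
theorem hES33c2_u0 : ∀ i, i < 540 → (fun i => lowOK D.T lN2 3 0 wES33 i) i = true :=
  allI_join allI_start hES33c2_c0 rfl
theorem hES33c2 : ∀ i, i < 540 → (fun i => lowOK D.T lN2 3 0 wES33 i) i = true := hES33c2_u0
theorem hES34c0_c0 : allI (fun i => lowOK D.T lN0 4 0 wES34 i) 0 540 = true := by decide +kernel
theorem hES34c0_u0 : ∀ i, i < 540 → (fun i => lowOK D.T lN0 4 0 wES34 i) i = true :=
  allI_join allI_start hES34c0_c0 rfl
theorem hES34c0 : ∀ i, i < 540 → (fun i => lowOK D.T lN0 4 0 wES34 i) i = true := hES34c0_u0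
theorem hES34c1_c0 : allI (fun i => lowOK D.T lN1 3 0 wES34 i) 0 540 = true := by decide +kernel
theorem hES34c1_u0 : ∀ i, i < 540 → (fun i => lowOK D.T lN1 3 0 wES34 i) i = true :=
  allI_join allI_start hES34c1_c0 rfl
theorem hES34c1 : ∀ i, i < 540 → (fun i => lowOK D.T lN1 3 0 wES34 i) i = true := hES34c1_u0
theorem hES34c2_c0 : allI (fun i => lowOK D.T lN2 3 0 wES34 i) 0 540 = true := by decide +kernel
theorem hES34c2_u0 : ∀ i, i < 540 → (fun i => lowOK D.T lN2 3 0 wES34 i) i = true :=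
  allI_join allI_start hES34c2_c0 rfl
theorem hES34c2 : ∀ i, i < 540 → (fun i => lowOK D.T lN2 3 0 wES34 i) i = true := hES34c2_u0
theorem hES35c0_c0 : allI (fun i => lowOK D.T lN0 4 1 wES35 i) 0 410 = true := by decide +kernel
theorem hES35c0_u0 : ∀ i, i < 410 → (fun i => lowOK D.T lN0 4 1 wES35 i) i = true :=
  allI_join allI_start hES35c0_c0 rfl
theorem hES35c0_c1 : allI (fun i => lowOK D.T lN0 4 1 wES35 i) 410 130 = true := by decide +kernel
theorem hES35c0_u1 : ∀ i, i < 540 → (fun i => lowOK D.T lN0 4 1 wES35 i) i = true :=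
  allI_join hES35c0_u0 hES35c0_c1 rfl
theorem hES35c0 : ∀ i, i < 540 → (fun i => lowOK D.T lN0 4 1 wES35 i) i = true := hES35c0_u1

end Cfsg.Agent.Lib.KnownSimple.U43Lab
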